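import Groth.Agent.Etbase.EtColim
import Groth.Agent.Etcore.EtInst
import Mathlib.Algebra.Category.Grp.FilteredColimits

/-!
# Étale cohomology of a qcqs scheme and filtered colimits: element-wise form

For `X` qcqs, `G : J ⥤ EtCoh.Ab X` a filtered diagram and `t` a colimit cocone:
* `exists_HHmap_eq`: every class in `H^n(X, t.pt)` comes from some `H^n(X, G j)`;
* `exists_HHmap_eq_zero`: a class in `H^n(X, G j)` dying in `H^n(X, t.pt)` dies in some `H^n(X, G k)`.
-/

set_option autoImplicit false
universe u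
open CategoryTheory CategoryTheory.Limits AlgebraicGeometry Opposite Abelian
open scoped Groth.Agent.Etcore.EtInst
open Groth.Agent.Etcore.EtInst

namespace Groth.Agent.Topos.H573.HHColim

variable {X : Scheme.{u}}

theorem HF_map_apply {F G : EtCoh.Ab X} (φ : F ⟶ G) (n : ℕ) (x : HH X F n) :
    @Eq (HH X G n) (((EtCoh.HF X n).map φ).hom x) (HHmap φ n x) := rfl

theorem preservesColimits_HF [CompactSpace X] [QuasiSeparatedSpace X] (n : ℕ)
    (J : Type u) [SmallCategory J] [IsFiltered J] :
    PreservesColimitsOfShape J (EtCoh.HF X n) := by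
  have := Groth.Agent.Etbase.EtColim.exact_small X J
  have := Groth.Agent.Etbase.EtColim.forget_small J
  exact Groth.Agent.Etbase.EtColim.preservesColimits_HF X J n

variable {J : Type u} [SmallCategory J] [IsFiltered J] {G : J ⥤ EtCoh.Ab X} {t : Cocone G}

theorem exists_HHmap_eq [CompactSpace X] [QuasiSeparatedSpace X] (ht : IsColimit t) (n : ℕ)
    (ξ : HH X t.pt n) : ∃ (j : J) (x : HH X (G.obj j) n), HHmap (t.ι.app j) n x = ξ := by
  have := Groth.Agent.Etbase.EtColim.forget_small J
  have := preservesColimits_HF (X := X) n J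
  obtain ⟨j, x, hx⟩ := Concrete.isColimit_exists_rep (G ⋙ EtCoh.HF X n)
    (isColimitOfPreserves (EtCoh.HF X n) ht) ξ
  exact ⟨j, x, hx⟩

theorem exists_HHmap_eq_zero [CompactSpace X] [QuasiSeparatedSpace X] (ht : IsColimit t) (n : ℕ)
    (j : J) (x : HH X (G.obj j) n) (hx : HHmap (t.ι.app j) n x = 0) :
    ∃ (k : J) (f : j ⟶ k), HHmap (G.map f) n x = 0 := by
  have := Groth.Agent.Etbase.EtColim.forget_small J
  have := preservesColimits_HF (X := X) n J
  obtain ⟨k, f, g, hfg⟩ := Concrete.isColimit_exists_of_rep_eq (G ⋙ EtCoh.HF X n)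
    (isColimitOfPreserves (EtCoh.HF X n) ht) (x := x) (y := (0 : HH X (G.obj j) n)) (by
      refine Eq.trans hx ?_
      exact (map_zero (HHmap (t.ι.app j) n)).symm)
  refine ⟨k, f, hfg.trans ?_⟩
  exact map_zero (HHmap (G.map g) n)

end Groth.Agent.Topos.H573.HHColim
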