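import Groth.Agent.Topos.H573.SysStage
import Groth.Agent.Topos.H573.HHColim

/-!
# Étale cohomology of a limit of schemes with coefficients in a system of sheaves

`D : I ⥤ Scheme` a cofiltered system of qcqs schemes with affine transition maps, `p i : S ⟶ D.obj i` a
limit cone, `F i` abelian étale sheaves on the stages, `φ f : D(f)⁻¹ F_i ⟶ F_j` for `f : j ⟶ i`
(cocycle condition), `β i : p_i⁻¹ F_i ⟶ N` compatible maps.

If `H^n(S, N)` is the colimit of the `H^n(S, p_i⁻¹ F_i)` (hypotheses `hs`, `hi`), then it is the colimit of the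
`H^n(D i, F_i)` (`sys_surj`, `sys_inj`).  Both statements use the opaque predicate
`Pt u i F α n x ξ : HHmap α n (hp u F n x) = ξ` ("pull back along `u`, then apply `α`").
-/

set_option autoImplicit false
universe u
open CategoryTheory CategoryTheory.Limits AlgebraicGeometry Opposite Abelian
open scoped Groth.Agent.Etcore.EtInst
open Groth.Agent.Etcore.EtInst Groth.Agent.Etcore.HpullCalc Groth.Agent.Etcore.LimDeg0
open Groth.Agent.Topos.H573.SysBasic Groth.Agent.Topos.H573.SysStage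

namespace Groth.Agent.Topos.H573.SysLim

section Pt

variable {X Y Z : Scheme.{u}}

/-- `HHmap α n (hp u F n x) = ξ` : pulling `x` back along `u` and applying `α` gives `ξ`. -/
def Pt (u : X ⟶ Y) (i : PreservesFiniteLimits (EtCoh.pull u)) (F : EtCoh.Ab Y) {M : EtCoh.Ab X}
    (α : (EtCoh.pull u).obj F ⟶ M) (n : ℕ) (x : HH Y F n) (ξ : HH X M n) : Prop :=
  HHmap α n (hp u F n x) = ξ

theorem pt_iff (u : X ⟶ Y) [i : PreservesFiniteLimits (EtCoh.pull u)] (F : EtCoh.Ab Y) {M : EtCoh.Ab X}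
    (α : (EtCoh.pull u).obj F ⟶ M) (n : ℕ) (x : HH Y F n) (ξ : HH X M n) :
    Pt u i F α n x ξ ↔ HHmap α n (hp u F n x) = ξ := Iff.rfl

theorem pt_surj_step (g : X ⟶ Y) (f : Y ⟶ Z) (gf : X ⟶ Z) (w : g ≫ f = gf)
    (i : PreservesFiniteLimits (EtCoh.pull g)) {F : EtCoh.Ab Z} {M : EtCoh.Ab Y} {N : EtCoh.Ab X}
    (α : (EtCoh.pull f).obj F ⟶ M) (β : (EtCoh.pull g).obj M ⟶ N)
    (γ : (EtCoh.pull gf).obj F ⟶ N) (hγ : γ = tr g f gf w F ≫ (EtCoh.pull g).map α ≫ β)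
    (n : ℕ) (x : HH Y ((EtCoh.pull f).obj F) n) (y : HH X ((EtCoh.pull gf).obj F) n)
    (h : IsVia g f gf w i F n x y) : Pt g i M β n (HHmap α n x) (HHmap γ n y) := by
  rw [pt_iff, surj_step g f gf w α β γ hγ n x]
  exact congrArg (HHmap γ n) h

theorem pt_inj_step (g : X ⟶ Y) (f : Y ⟶ Z) (gf : X ⟶ Z) (w : g ≫ f = gf)
    (i : PreservesFiniteLimits (EtCoh.pull g)) (j : PreservesFiniteLimits (EtCoh.pull f))
    (k : PreservesFiniteLimits (EtCoh.pull gf)) {F : EtCoh.Ab Z} {M : EtCoh.Ab Y}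
    (α : (EtCoh.pull f).obj F ⟶ M) (n : ℕ) (x : HH Z F n)
    (h : HHmap (tr g f gf w F ≫ (EtCoh.pull g).map α) n (hp gf F n x) = 0) :
    Dies g i M n (HHmap α n (hp f F n x)) := by
  rw [dies_iff, hp_map, hp_hp_tr g f gf w F n x, ← HHmap_comp]
  exact h

theorem pt_inj_step₂ (g : X ⟶ Y) (f : Y ⟶ Z) (gf : X ⟶ Z) (w : g ≫ f = gf)
    (i : PreservesFiniteLimits (EtCoh.pull g)) (j : PreservesFiniteLimits (EtCoh.pull f))
    (k : PreservesFiniteLimits (EtCoh.pull gf)) {F : EtCoh.Ab Z} {M : EtCoh.Ab Y} {N : EtCoh.Ab X}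
    (α : (EtCoh.pull f).obj F ⟶ M) (β : (EtCoh.pull g).obj M ⟶ N)
    (γ : (EtCoh.pull gf).obj F ⟶ N) (hγ : γ = tr g f gf w F ≫ (EtCoh.pull g).map α ≫ β)
    (n : ℕ) (x : HH Z F n) (h : Dies g i M n (HHmap α n (hp f F n x))) : Pt gf k F γ n x 0 := by
  rw [pt_iff, hpThen_comp g f gf w α β γ hγ n x, (dies_iff g M n _).1 h, map_zero]

end Pt

variable {I : Type u} [SmallCategory I] [IsCofiltered I] {D : I ⥤ Scheme.{u}}
  [haff : ∀ {i j} (f : i ⟶ j), IsAffineHom (D.map f)] {S : Scheme.{u}}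
  (p : ∀ i, S ⟶ D.obj i) (hpD : ∀ {x y : I} (f : x ⟶ y), p x ≫ D.map f = p y)
  (hc : IsLimit (coneOf p hpD)) [hqc : ∀ i, CompactSpace (D.obj i)]
  [hqs : ∀ i, QuasiSeparatedSpace (D.obj i)]
  (hl : ∀ i, PreservesFiniteLimits (EtCoh.pull (p i)))
  (hl' : ∀ {i j : I} (f : i ⟶ j), PreservesFiniteLimits (EtCoh.pull (D.map f)))
  (F : ∀ i, EtCoh.Ab (D.obj i))
  (φ : ∀ {i j : I} (f : j ⟶ i), (EtCoh.pull (D.map f)).obj (F i) ⟶ F j)
  (hφ : ∀ {i j k : I} (f : j ⟶ i) (g : k ⟶ j), φ (g ≫ f) =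
    tr (D.map g) (D.map f) (D.map (g ≫ f)) (D.map_comp g f).symm (F i) ≫
      (EtCoh.pull (D.map g)).map (φ f) ≫ φ g)
  {N : EtCoh.Ab S} (β : ∀ i, (EtCoh.pull (p i)).obj (F i) ⟶ N)
  (hβ : ∀ {i j : I} (f : j ⟶ i), β i =
    tr (p j) (D.map f) (p i) (hpD f) (F i) ≫ (EtCoh.pull (p j)).map (φ f) ≫ β j)
  (n : ℕ)
  (hs : ∀ ξ : HH S N n, ∃ (i : I) (y : HH S ((EtCoh.pull (p i)).obj (F i)) n), HHmap (β i) n y = ξ)
  (hi : ∀ (i : I) (y : HH S ((EtCoh.pull (p i)).obj (F i)) n), HHmap (β i) n y = 0 →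
    ∃ (j : I) (f : j ⟶ i),
      HHmap (tr (p j) (D.map f) (p i) (hpD f) (F i) ≫ (EtCoh.pull (p j)).map (φ f)) n y = 0)

include hc hβ hs in
/-- Every class in `H^n(S, N)` comes from a stage. -/
theorem sys_surj (ξ : HH S N n) :
    ∃ (i : I) (x : HH (D.obj i) (F i) n), Pt (p i) (hl i) (F i) (β i) n x ξ := by
  obtain ⟨i, y, rfl⟩ := hs ξ
  obtain ⟨j, f, x, hx⟩ := stage_surj p hpD hc hl i (F i) n y
  exact ⟨j, HHmap (φ f) n x, pt_surj_step (p j) (D.map f) (p i) (hpD f) (hl j) (φ f) (β j) (β i)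
    (hβ f) n x y hx⟩

include hc hφ hi in
/-- A class at a stage which dies in `H^n(S, N)` dies at a later stage. -/
theorem sys_inj (i : I) (x : HH (D.obj i) (F i) n) (hx : Pt (p i) (hl i) (F i) (β i) n x 0) :
    ∃ (j : I) (f : j ⟶ i), Pt (D.map f) (hl' f) (F i) (φ f) n x 0 := by
  obtain ⟨j, f, hf⟩ := hi i _ hx
  have h1 := pt_inj_step (p j) (D.map f) (p i) (hpD f) (hl j) (hl' f) (hl i) (φ f) n x hf
  obtain ⟨k, g, hg⟩ := stage_inj p hpD hc hl hl' j (F j) n _ h1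
  exact ⟨k, g ≫ f, pt_inj_step₂ (D.map g) (D.map f) (D.map (g ≫ f)) (D.map_comp g f).symm
    (hl' g) (hl' f) (hl' (g ≫ f)) (φ f) (φ g) (φ (g ≫ f)) (hφ f g) n x hg⟩

end Groth.Agent.Topos.H573.SysLim
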