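import Groth.Agent.Topos.H573.SysStage
import Groth.Agent.Topos.H573.HHColim
import Groth.Agent.Topos.H573.SysLim

/-!
# Étale cohomology of a limit of schemes with coefficients in a system of sheaves, over a directed set

The version of `Groth.Agent.Topos.H573.SysLim` indexed by a directed preorder, with a diagram of sheaves on the
limit and a colimit cocone (`dir_surj`, `dir_inj`).  All hypotheses and conclusions use the opaque predicates
`Pt` and `Cocyc` so that they can be instantiated cheaply.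
-/

set_option autoImplicit false
universe u
open CategoryTheory CategoryTheory.Limits AlgebraicGeometry Opposite Abelian
open scoped Groth.Agent.Etcore.EtInst
open Groth.Agent.Etcore.EtInst Groth.Agent.Etcore.HpullCalc Groth.Agent.Etcore.LimDeg0
open Groth.Agent.Topos.H573.SysBasic Groth.Agent.Topos.H573.SysStage Groth.Agent.Topos.H573.SysLim

namespace Groth.Agent.Topos.H573.SysDir

section Cocyc

variable {X Y Z : Scheme.{u}}

/-- `γ` is the composite `gf⁻¹ F ≅ g⁻¹ f⁻¹ F ⟶ g⁻¹ M ⟶ N` -/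
def Cocyc (g : X ⟶ Y) (f : Y ⟶ Z) (gf : X ⟶ Z) (w : g ≫ f = gf) {F : EtCoh.Ab Z}
    {M : EtCoh.Ab Y} {N : EtCoh.Ab X} (α : (EtCoh.pull f).obj F ⟶ M) (β : (EtCoh.pull g).obj M ⟶ N)
    (γ : (EtCoh.pull gf).obj F ⟶ N) : Prop :=
  γ = (isoTr g f gf w).hom.app F ≫ (EtCoh.pull g).map α ≫ β

theorem cocyc_iff (g : X ⟶ Y) (f : Y ⟶ Z) (gf : X ⟶ Z) (w : g ≫ f = gf) {F : EtCoh.Ab Z}
    {M : EtCoh.Ab Y} {N : EtCoh.Ab X} (α : (EtCoh.pull f).obj F ⟶ M) (β : (EtCoh.pull g).obj M ⟶ N)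
    (γ : (EtCoh.pull gf).obj F ⟶ N) : Cocyc g f gf w α β γ ↔
      γ = tr g f gf w F ≫ (EtCoh.pull g).map α ≫ β :=
  Eq.congr_right (comp_eq_tr g f gf w α β)

end Cocyc

variable {ι : Type u} [Preorder ι] [Nonempty ι] [IsDirected ι (· ≤ ·)] {D : ιᵒᵖ ⥤ Scheme.{u}}
  [haff : ∀ {i j : ιᵒᵖ} (f : i ⟶ j), IsAffineHom (D.map f)] {S : Scheme.{u}}
  (p : ∀ i : ιᵒᵖ, S ⟶ D.obj i) (hpD : ∀ {x y : ιᵒᵖ} (f : x ⟶ y), p x ≫ D.map f = p y)
  (hc : IsLimit (coneOf p hpD)) [hqc : ∀ i, CompactSpace (D.obj i)]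
  [hqs : ∀ i, QuasiSeparatedSpace (D.obj i)]
  (hl : ∀ i, PreservesFiniteLimits (EtCoh.pull (p i)))
  (hl' : ∀ {i j : ιᵒᵖ} (f : i ⟶ j), PreservesFiniteLimits (EtCoh.pull (D.map f)))
  (F : ∀ i : ι, EtCoh.Ab (D.obj (op i)))
  (φ : ∀ ⦃i j : ι⦄ (h : i ≤ j), (EtCoh.pull (D.map (homOfLE h).op)).obj (F i) ⟶ F j)
  (hφ : ∀ ⦃i j k : ι⦄ (hij : i ≤ j) (hjk : j ≤ k),
    Cocyc (D.map (homOfLE hjk).op) (D.map (homOfLE hij).op) (D.map (homOfLE (hij.trans hjk)).op)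
      (D.map_comp (homOfLE hjk).op (homOfLE hij).op).symm (φ hij) (φ hjk) (φ (hij.trans hjk)))
  (G : ι ⥤ EtCoh.Ab S) (ψ : ∀ i : ι, (EtCoh.pull (p (op i))).obj (F i) ≅ G.obj i)
  (hψ : ∀ ⦃i j : ι⦄ (hij : i ≤ j),
    Cocyc (p (op j)) (D.map (homOfLE hij).op) (p (op i)) (hpD _) (φ hij) (ψ j).hom
      ((ψ i).hom ≫ G.map (homOfLE hij)))
  {t : Cocone G} (ht : IsColimit t) (n : ℕ)

omit [Nonempty ι] in
include hc hl in
theorem dir_stage_surj (i : ι) (F₀ : EtCoh.Ab (D.obj (op i))) (n : ℕ)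
    (ξ : HH S ((EtCoh.pull (p (op i))).obj F₀) n) :
    ∃ (j : ι) (h : i ≤ j) (x : HH (D.obj (op j)) ((EtCoh.pull (D.map (homOfLE h).op)).obj F₀) n),
      IsVia (p (op j)) (D.map (homOfLE h).op) (p (op i)) (hpD (homOfLE h).op) (hl (op j)) F₀ n x ξ := by
  have : Nonempty ι := ⟨i⟩
  obtain ⟨⟨j⟩, f, h⟩ := stage_surj p hpD hc hl (op i) F₀ n ξ
  have hij : i ≤ j := leOfHom f.unop
  have e : f = (homOfLE hij).op := rfl
  subst e
  exact ⟨j, hij, h⟩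

omit [Nonempty ι] in
include hc hl in
theorem dir_stage_inj (i : ι) (F₀ : EtCoh.Ab (D.obj (op i))) (n : ℕ) (x : HH (D.obj (op i)) F₀ n)
    (hx : Dies (p (op i)) (hl (op i)) F₀ n x) :
    ∃ (j : ι) (h : i ≤ j), Dies (D.map (homOfLE h).op) (hl' (homOfLE h).op) F₀ n x := by
  have : Nonempty ι := ⟨i⟩
  obtain ⟨⟨j⟩, f, h⟩ := stage_inj p hpD hc hl hl' (op i) F₀ n x hx
  have hij : i ≤ j := leOfHom f.unop
  have e : f = (homOfLE hij).op := rfl
  subst e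
  exact ⟨j, hij, h⟩

include hc in
theorem qcqs_pt : CompactSpace S ∧ QuasiSeparatedSpace S := by
  obtain ⟨i⟩ := ‹Nonempty ι›
  have h2 : IsAffineHom (p (op i)) := isAffineHom_π_app D (coneOf p hpD) hc (op i)
  exact ⟨QuasiCompact.compactSpace_of_compactSpace (p (op i)),
    @quasiSeparatedSpace_of_quasiSeparated _ _ (p (op i)) (hqs _) inferInstance⟩

include hc hψ ht in
/-- Every class in `H^n(S, colim p_i⁻¹ F_i)` comes from a stage. -/
theorem dir_surj (ξ : HH S t.pt n) :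
    ∃ (j : ι) (x : HH (D.obj (op j)) (F j) n),
      Pt (p (op j)) (hl (op j)) (F j) ((ψ j).hom ≫ t.ι.app j) n x ξ := by
  obtain ⟨_, _⟩ := qcqs_pt p hpD hc
  obtain ⟨i, y, rfl⟩ := HHColim.exists_HHmap_eq (X := S) ht n ξ
  obtain ⟨y, rfl⟩ := (HHmap_bijective (ψ i).hom n).2 y
  obtain ⟨j, hij, x, hx⟩ := dir_stage_surj p hpD hc hl i (F i) n y
  refine ⟨j, HHmap (φ hij) n x, ?_⟩
  rw [← HHmap_comp]
  refine pt_surj_step (p (op j)) (D.map (homOfLE hij).op) (p (op i)) (hpD _) (hl _) (φ hij) _ _ ?_ n x y hx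
  rw [← t.w (homOfLE hij), ← Category.assoc, (cocyc_iff _ _ _ _ _ _ _).1 (hψ hij),
    Category.assoc, Category.assoc]

include hc hφ hψ ht in
/-- A class at a stage which dies in `H^n(X, colim u_i⁻¹ F_i)` dies at a later stage. -/
theorem dir_inj (i : ι) (x : HH (D.obj (op i)) (F i) n)
    (hx : Pt (p (op i)) (hl (op i)) (F i) ((ψ i).hom ≫ t.ι.app i) n x 0) :
    ∃ (j : ι) (h : i ≤ j), Pt (D.map (homOfLE h).op) (hl' (homOfLE h).op) (F i) (φ h) n x 0 := by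
  obtain ⟨_, _⟩ := qcqs_pt p hpD hc
  rw [pt_iff, HHmap_comp] at hx
  obtain ⟨j, f, hj⟩ := HHColim.exists_HHmap_eq_zero (X := S) ht n i _ hx
  have hij : i ≤ j := leOfHom f
  have e : f = homOfLE hij := rfl
  subst e
  rw [← HHmap_comp, (cocyc_iff _ _ _ _ _ _ _).1 (hψ hij), ← Category.assoc, HHmap_comp] at hj
  have hj' := (HHmap_bijective (ψ j).hom n).1 (hj.trans (map_zero _).symm)
  have h1 := pt_inj_step (p (op j)) (D.map (homOfLE hij).op) (p (op i)) (hpD _) (hl _) (hl' _) (hl _)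
    (φ hij) n x hj'
  obtain ⟨k, hjk, hk⟩ := dir_stage_inj p hpD hc hl hl' j (F j) n _ h1
  exact ⟨k, hij.trans hjk, pt_inj_step₂ (D.map (homOfLE hjk).op) (D.map (homOfLE hij).op) _ _
    (hl' _) (hl' _) (hl' _) (φ hij) (φ hjk) (φ (hij.trans hjk))
    ((cocyc_iff _ _ _ _ _ _ _).1 (hφ hij hjk)) n x hk⟩

end Groth.Agent.Topos.H573.SysDir
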