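import Groth.Prelude.Def_EtLim
import Groth.Agent.Topos.H573.SysDir

/-!
# The limit theorem for systems, in the language of `Groth.Prelude.Def_EtLim`

* `Q`: opaque form of `EtLim.HpullThen u F α n x = ξ`; `q_iff`: relation with `Pt`;
* `cocyc_pullTrans`, `cocyc_pullTransCone`: the cocycle conditions in the frozen statements give `Cocyc`;
* `cone_surj`, `cone_inj`: the limit theorem for a limit cone `c : Cone Xs` and any colimit cocone `t` of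
  a diagram `G : ι ⥤ EtCoh.Ab c.pt` identified with the system `(u_i⁻¹ F_i)`.
-/

set_option autoImplicit false
universe u
open CategoryTheory CategoryTheory.Limits AlgebraicGeometry Opposite Abelian
open Groth.Agent.Etcore.EtInst
open Groth.Agent.Topos.H573.SysBasic Groth.Agent.Topos.H573.SysStage Groth.Agent.Topos.H573.SysLim
open Groth.Agent.Topos.H573.SysDir

namespace Groth.Agent.Topos.H573.SysFrozen

/-- `EtLim.HpullThen u F α n x = ξ` -/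
def Q {X Y : Scheme.{u}} (u : X ⟶ Y) [PreservesFiniteLimits (EtCoh.pull u)] (F : EtCoh.Ab Y)
    {M : EtCoh.Ab X} (α : (EtCoh.pull u).obj F ⟶ M) (n : ℕ) (x : EtCoh.H Y F n) (ξ : EtCoh.H X M n) :
    Prop :=
  EtLim.HpullThen u F α n x = ξ

theorem q_iff {X Y : Scheme.{u}} (u : X ⟶ Y) [i : PreservesFiniteLimits (EtCoh.pull u)] (F : EtCoh.Ab Y)
    {M : EtCoh.Ab X} (α : (EtCoh.pull u).obj F ⟶ M) (n : ℕ) (x : EtCoh.H Y F n) (ξ : EtCoh.H X M n) :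
    Q u F α n x ξ ↔ Pt u i F α n x ξ := Iff.rfl

section

variable {ι : Type u} [Preorder ι] (Xs : ιᵒᵖ ⥤ Scheme.{u})

theorem pullTrans_eq {i j k : ι} (hij : i ≤ j) (hjk : j ≤ k) :
    EtLim.pullTrans Xs hij hjk = isoTr (Xs.map (homOfLE hjk).op) (Xs.map (homOfLE hij).op)
      (Xs.map (homOfLE (hij.trans hjk)).op)
      (Xs.map_comp (homOfLE hjk).op (homOfLE hij).op).symm := rfl

theorem pullTransCone_eq (c : Cone Xs) {i j : ι} (hij : i ≤ j) :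
    EtLim.pullTransCone Xs c hij = isoTr (c.π.app (op j)) (Xs.map (homOfLE hij).op) (c.π.app (op i))
      (c.w (homOfLE hij).op) := rfl

theorem cocyc_pullTrans (F : ∀ i : ι, EtCoh.Ab (Xs.obj (op i)))
    (φ : ∀ ⦃i j : ι⦄ (h : i ≤ j), (EtCoh.pull (Xs.map (homOfLE h).op)).obj (F i) ⟶ F j)
    ⦃i j k : ι⦄ (hij : i ≤ j) (hjk : j ≤ k)
    (hφ : φ (hij.trans hjk) = (EtLim.pullTrans Xs hij hjk).hom.app (F i) ≫
        (EtCoh.pull (Xs.map (homOfLE hjk).op)).map (φ hij) ≫ φ hjk) :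
    Cocyc (Xs.map (homOfLE hjk).op) (Xs.map (homOfLE hij).op) (Xs.map (homOfLE (hij.trans hjk)).op)
      (Xs.map_comp (homOfLE hjk).op (homOfLE hij).op).symm (φ hij) (φ hjk) (φ (hij.trans hjk)) := by
  rw [pullTrans_eq] at hφ
  exact hφ

theorem cocyc_pullTransCone (c : Cone Xs) (F : ∀ i : ι, EtCoh.Ab (Xs.obj (op i)))
    (φ : ∀ ⦃i j : ι⦄ (h : i ≤ j), (EtCoh.pull (Xs.map (homOfLE h).op)).obj (F i) ⟶ F j)
    (G : ι ⥤ EtCoh.Ab c.pt) (ψ : ∀ i : ι, (EtCoh.pull (c.π.app (op i))).obj (F i) ≅ G.obj i)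
    ⦃i j : ι⦄ (hij : i ≤ j)
    (hψ : (ψ i).hom ≫ G.map (homOfLE hij) =
      (EtLim.pullTransCone Xs c hij).hom.app (F i) ≫ (EtCoh.pull (c.π.app (op j))).map (φ hij) ≫ (ψ j).hom) :
    Cocyc (c.π.app (op j)) (Xs.map (homOfLE hij).op) (c.π.app (op i)) (c.w (homOfLE hij).op) (φ hij)
      (ψ j).hom ((ψ i).hom ≫ G.map (homOfLE hij)) := by
  rw [pullTransCone_eq] at hψ
  exact hψ

end

section

variable {ι : Type u} [Preorder ι] [Nonempty ι] [IsDirected ι (· ≤ ·)]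
    (Xs : ιᵒᵖ ⥤ Scheme.{u}) (haff : ∀ ⦃a b : ιᵒᵖ⦄ (h : a ⟶ b), IsAffineHom (Xs.map h))
    (hqc : ∀ a, CompactSpace ↥(Xs.obj a)) (hqs : ∀ a, QuasiSeparatedSpace ↥(Xs.obj a))
    (c : Cone Xs) (hc : IsLimit c)
    [hl : ∀ a, PreservesFiniteLimits (EtCoh.pull (c.π.app a))]
    (F : ∀ i : ι, EtCoh.Ab (Xs.obj (op i)))
    (φ : ∀ ⦃i j : ι⦄ (h : i ≤ j), (EtCoh.pull (Xs.map (homOfLE h).op)).obj (F i) ⟶ F j)
    (G : ι ⥤ EtCoh.Ab c.pt) (ψ : ∀ i : ι, (EtCoh.pull (c.π.app (op i))).obj (F i) ≅ G.obj i)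
    (hψ : ∀ ⦃i j : ι⦄ (hij : i ≤ j), Cocyc (c.π.app (op j)) (Xs.map (homOfLE hij).op) (c.π.app (op i))
      (c.w (homOfLE hij).op) (φ hij) (ψ j).hom ((ψ i).hom ≫ G.map (homOfLE hij)))
    (t : Cocone G) (ht : IsColimit t) (n : ℕ)

include haff hqc hqs hc hψ ht in
theorem cone_surj (ξ : HH c.pt t.pt n) :
    ∃ (j : ι) (x : HH (Xs.obj (op j)) (F j) n),
      Pt (c.π.app (op j)) (hl (op j)) (F j) ((ψ j).hom ≫ t.ι.app j) n x ξ :=
  @dir_surj ι _ _ _ Xs (fun f => haff f) c.pt (fun a => c.π.app a) (fun f => c.w f) hc hqc hqs hl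
      F φ G ψ hψ t ht n ξ

variable [hl' : ∀ ⦃a b : ιᵒᵖ⦄ (h : a ⟶ b), PreservesFiniteLimits (EtCoh.pull (Xs.map h))]
    (hφ : ∀ ⦃i j k : ι⦄ (hij : i ≤ j) (hjk : j ≤ k),
      Cocyc (Xs.map (homOfLE hjk).op) (Xs.map (homOfLE hij).op) (Xs.map (homOfLE (hij.trans hjk)).op)
        (Xs.map_comp (homOfLE hjk).op (homOfLE hij).op).symm (φ hij) (φ hjk) (φ (hij.trans hjk)))

include haff hqc hqs hc hψ ht hφ in
theorem cone_inj (j : ι) (x : HH (Xs.obj (op j)) (F j) n)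
    (hx : Pt (c.π.app (op j)) (hl (op j)) (F j) ((ψ j).hom ≫ t.ι.app j) n x 0) :
    ∃ (k : ι) (h : j ≤ k),
      Pt (Xs.map (homOfLE h).op) (hl' (homOfLE h).op) (F j) (φ h) n x 0 :=
  @dir_inj ι _ _ _ Xs (fun f => haff f) c.pt (fun a => c.π.app a) (fun f => c.w f) hc hqc hqs hl
      (fun f => hl' f) F φ hφ G ψ hψ t ht n j x hx

end

end Groth.Agent.Topos.H573.SysFrozen
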