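import Groth.Agent.Etcore.HpullCalc

/-!
# "Pull back, then apply a map": composition

* `hpThen_comp`: compatibility of "pull back then apply a map" with composition of morphisms of schemes.

KERNEL SPEED NOTE.  The kernel is very slow (30 s) whenever it has to compare
`(pull f ⋙ pull g).obj F` and `(pull g).obj ((pull f).obj F)` inside a composition; such conversions are
therefore made for abstract categories (`appComp`, `appComp_comp`, `HHmap_appComp`).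
-/

set_option autoImplicit false
universe u
open CategoryTheory CategoryTheory.Limits AlgebraicGeometry Opposite Abelian
open scoped Groth.Agent.Etcore.EtInst
open Groth.Agent.Etcore.EtInst Groth.Agent.Etcore.HpullCalc

namespace Groth.Agent.Topos.H573.SysBasic

section Abstract

universe v₁ v₂ v₃ u₁ u₂ u₃
variable {A : Type u₁} [Category.{v₁} A] {B : Type u₂} [Category.{v₂} B] {C : Type u₃} [Category.{v₃} C]

/-- a component of a natural transformation to a composite functor, with the unfolded type -/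
def appComp {P : A ⥤ C} {F : A ⥤ B} {G : B ⥤ C} (α : P ⟶ F ⋙ G) (x : A) :
    P.obj x ⟶ G.obj (F.obj x) := α.app x

theorem comp_eq_appComp {P : A ⥤ C} {F : A ⥤ B} {G : B ⥤ C} (α : P ⟶ F ⋙ G) (x : A)
    {y : B} (a : F.obj x ⟶ y) {z : C} (b : G.obj y ⟶ z) :
    α.app x ≫ G.map a ≫ b = appComp α x ≫ G.map a ≫ b := rfl

theorem appComp_of_inv {P : A ⥤ C} {F : A ⥤ B} {G : B ⥤ C} (e : P ≅ F ⋙ G) {P' : A ⥤ C}
    (d : P' ≅ P) (x : A) (i : G.obj (F.obj x) ⟶ P.obj x) (hi : i = e.inv.app x) :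
    (i ≫ d.inv.app x) ≫ appComp (d ≪≫ e).hom x = 𝟙 _ := by
  subst hi
  change (e.inv.app x ≫ d.inv.app x) ≫ (d.hom.app x ≫ e.hom.app x) = 𝟙 ((F ⋙ G).obj x)
  simp

theorem HHmap_appComp {X : Scheme.{u}} {P : A ⥤ EtCoh.Ab X} {F : A ⥤ B} {G : B ⥤ EtCoh.Ab X}
    (α : P ⟶ F ⋙ G) (x : A) (n : ℕ) (y : HH X (P.obj x) n) :
    @Eq (HH X (G.obj (F.obj x)) n) (HHmap (α.app x) n y) (HHmap (appComp α x) n y) := rfl

end Abstract

variable {X Y Z : Scheme.{u}}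

theorem hp_congr {f f' : X ⟶ Y} (w : f = f') [PreservesFiniteLimits (EtCoh.pull f)]
    [PreservesFiniteLimits (EtCoh.pull f')] (F : EtCoh.Ab Y) (n : ℕ) (x : HH Y F n) :
    HHmap ((EtCore.pullCongr w).hom.app F) n (hp f F n x) = hp f' F n x := by
  subst w
  rw [pullCongr_rfl_hom_app, HHmap_id]

theorem hp_hp (g : X ⟶ Y) (f : Y ⟶ Z) (gf : X ⟶ Z) (w : gf = g ≫ f)
    [PreservesFiniteLimits (EtCoh.pull g)] [PreservesFiniteLimits (EtCoh.pull f)]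
    [PreservesFiniteLimits (EtCoh.pull gf)] (F : EtCoh.Ab Z) (n : ℕ) (x : HH Z F n) :
    hp g _ n (hp f F n x) = HHmap ((EtCore.pullComp g f).hom.app F) n
      (HHmap ((EtCore.pullCongr w).hom.app F) n (hp gf F n x)) := by
  have i : PreservesFiniteLimits (EtCoh.pull (g ≫ f)) := by rw [← w]; infer_instance
  rw [hp_congr w F n x, hp_comp g f F n x]

/-- `gf⁻¹ ≅ g⁻¹ ∘ f⁻¹` for `g ≫ f = gf` -/
noncomputable def isoTr (g : X ⟶ Y) (f : Y ⟶ Z) (gf : X ⟶ Z) (w : g ≫ f = gf) :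
    EtCoh.pull gf ≅ EtCoh.pull f ⋙ EtCoh.pull g :=
  EtCore.pullCongr w.symm ≪≫ EtCore.pullComp g f

theorem isoTr_eq (g : X ⟶ Y) (f : Y ⟶ Z) (gf : X ⟶ Z) (w : g ≫ f = gf) :
    isoTr g f gf w = EtCore.pullCongr w.symm ≪≫ EtCore.pullComp g f := rfl

/-- the canonical map `gf⁻¹ F ⟶ g⁻¹ f⁻¹ F` -/
noncomputable def tr (g : X ⟶ Y) (f : Y ⟶ Z) (gf : X ⟶ Z) (w : g ≫ f = gf) (F : EtCoh.Ab Z) :
    (EtCoh.pull gf).obj F ⟶ (EtCoh.pull g).obj ((EtCoh.pull f).obj F) :=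
  appComp (isoTr g f gf w).hom F

theorem comp_eq_tr (g : X ⟶ Y) (f : Y ⟶ Z) (gf : X ⟶ Z) (w : g ≫ f = gf) {F : EtCoh.Ab Z}
    {M : EtCoh.Ab Y} {N : EtCoh.Ab X} (α : (EtCoh.pull f).obj F ⟶ M) (β : (EtCoh.pull g).obj M ⟶ N) :
    (isoTr g f gf w).hom.app F ≫ (EtCoh.pull g).map α ≫ β =
      tr g f gf w F ≫ (EtCoh.pull g).map α ≫ β :=
  comp_eq_appComp _ _ _ _

theorem hp_hp' (g : X ⟶ Y) (f : Y ⟶ Z) (gf : X ⟶ Z) (w : g ≫ f = gf)
    [PreservesFiniteLimits (EtCoh.pull g)] [PreservesFiniteLimits (EtCoh.pull f)]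
    [PreservesFiniteLimits (EtCoh.pull gf)] (F : EtCoh.Ab Z) (n : ℕ) (x : HH Z F n) :
    hp g _ n (hp f F n x) = HHmap ((isoTr g f gf w).hom.app F) n (hp gf F n x) := by
  rw [hp_hp g f gf w.symm F n x, ← HHmap_comp, isoTr_eq, Iso.trans_hom, NatTrans.comp_app]

theorem hp_hp_tr (g : X ⟶ Y) (f : Y ⟶ Z) (gf : X ⟶ Z) (w : g ≫ f = gf)
    [PreservesFiniteLimits (EtCoh.pull g)] [PreservesFiniteLimits (EtCoh.pull f)]
    [PreservesFiniteLimits (EtCoh.pull gf)] (F : EtCoh.Ab Z) (n : ℕ) (x : HH Z F n) :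
    hp g _ n (hp f F n x) = HHmap (tr g f gf w F) n (hp gf F n x) :=
  (hp_hp' g f gf w F n x).trans (HHmap_appComp _ _ _ _)

/-- "Pull back along `f`, apply `α`, pull back along `g`, apply `β`" is "pull back along `g ≫ f` and apply
the composite map". -/
theorem hpThen_comp (g : X ⟶ Y) (f : Y ⟶ Z) (gf : X ⟶ Z) (w : g ≫ f = gf)
    [PreservesFiniteLimits (EtCoh.pull g)] [PreservesFiniteLimits (EtCoh.pull f)]
    [PreservesFiniteLimits (EtCoh.pull gf)] {F : EtCoh.Ab Z} {M : EtCoh.Ab Y} {N : EtCoh.Ab X}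
    (α : (EtCoh.pull f).obj F ⟶ M) (β : (EtCoh.pull g).obj M ⟶ N)
    (γ : (EtCoh.pull gf).obj F ⟶ N) (hγ : γ = tr g f gf w F ≫ (EtCoh.pull g).map α ≫ β)
    (n : ℕ) (x : HH Z F n) :
    HHmap γ n (hp gf F n x) = HHmap β n (hp g M n (HHmap α n (hp f F n x))) := by
  rw [hp_map, hp_hp_tr g f gf w F n x, ← HHmap_comp, ← HHmap_comp, hγ]

theorem inv_congr_tr (g : X ⟶ Y) (f : Y ⟶ Z) (gf : X ⟶ Z) (w : g ≫ f = gf) (F : EtCoh.Ab Z) :
    ((EtCore.pullComp g f).inv.app F ≫ (EtCore.pullCongr w).hom.app F) ≫ tr g f gf w F = 𝟙 _ := by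
  subst w
  exact appComp_of_inv (EtCore.pullComp g f) (EtCore.pullCongr rfl) F _ rfl

/-- If the relative pullback `hpVia` of `x` is `y`, then pulling back `x` is transporting `y`. -/
theorem hp_eq_of_hpVia (g : X ⟶ Y) (f : Y ⟶ Z) (gf : X ⟶ Z) (w : g ≫ f = gf)
    [PreservesFiniteLimits (EtCoh.pull g)] (F : EtCoh.Ab Z) (n : ℕ)
    (x : HH Y ((EtCoh.pull f).obj F) n) :
    hp g _ n x = HHmap (tr g f gf w F) n (hpVia g f gf w F n x) := by
  rw [hpVia_apply, ← HHmap_comp, inv_congr_tr, HHmap_id]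

/-- The surjectivity step: a class `y` on `X` which comes from `Y` via `hpVia`. -/
theorem surj_step (g : X ⟶ Y) (f : Y ⟶ Z) (gf : X ⟶ Z) (w : g ≫ f = gf)
    [PreservesFiniteLimits (EtCoh.pull g)] {F : EtCoh.Ab Z} {M : EtCoh.Ab Y} {N : EtCoh.Ab X}
    (α : (EtCoh.pull f).obj F ⟶ M) (β : (EtCoh.pull g).obj M ⟶ N)
    (γ : (EtCoh.pull gf).obj F ⟶ N) (hγ : γ = tr g f gf w F ≫ (EtCoh.pull g).map α ≫ β)
    (n : ℕ) (x : HH Y ((EtCoh.pull f).obj F) n) :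
    HHmap β n (hp g M n (HHmap α n x)) = HHmap γ n (hpVia g f gf w F n x) := by
  rw [hp_map, hp_eq_of_hpVia g f gf w F n x, ← HHmap_comp, ← HHmap_comp, hγ]

end Groth.Agent.Topos.H573.SysBasic
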