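import Groth.Agent.Topos.H573.SysBasic
import Groth.Agent.Etcore.LimEt
import Groth.Agent.S0101
import Mathlib.CategoryTheory.Filtered.Final

/-!
# The limit theorem in étale cohomology for one sheaf on one stage (`HH` form, any cofiltered index category)

`D : I ⥤ Scheme` a cofiltered system of qcqs schemes with affine transition maps, `p i : S ⟶ D.obj i` a
limit cone, `F₀` an abelian étale sheaf on the stage `i`:
* `stage_surj`: every class in `H^n(S, p_i⁻¹ F₀)` comes from `H^n(D j, D(f)⁻¹ F₀)` for some `f : j ⟶ i`;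
* `stage_inj`: a class in `H^n(D i, F₀)` which dies in `H^n(S, p_i⁻¹ F₀)` dies in some `H^n(D j, D(f)⁻¹ F₀)`.
-/

set_option autoImplicit false
universe u
open CategoryTheory CategoryTheory.Limits AlgebraicGeometry Opposite Abelian
open scoped Groth.Agent.Etcore.EtInst
open Groth.Agent.Etcore.EtInst Groth.Agent.Etcore.HpullCalc Groth.Agent.Etcore.LimDeg0

namespace Groth.Agent.Topos.H573.SysStage

/-! ### Opaque forms of `hpVia p t q w G n x = ξ` and `hp f G n x = 0`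

(the kernel compares the arguments of these first; it never does so for `DFunLike.coe`) -/

section Opaque

variable {S X Y : Scheme.{u}}

/-- `hpVia p t q w G n x = ξ` -/
def IsVia (p : S ⟶ Y) (t : Y ⟶ X) (q : S ⟶ X) (w : p ≫ t = q) (i : PreservesFiniteLimits (EtCoh.pull p))
    (G : EtCoh.Ab X) (n : ℕ) (x : HH Y ((EtCoh.pull t).obj G) n)
    (ξ : HH S ((EtCoh.pull q).obj G) n) : Prop :=
  hpVia p t q w G n x = ξ

/-- `hp f G n x = 0` -/
def Dies (f : Y ⟶ X) (i : PreservesFiniteLimits (EtCoh.pull f)) (G : EtCoh.Ab X) (n : ℕ)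
    (x : HH X G n) : Prop :=
  hp f G n x = 0

theorem isVia_iff (p : S ⟶ Y) (t : Y ⟶ X) (q : S ⟶ X) (w : p ≫ t = q)
    [i : PreservesFiniteLimits (EtCoh.pull p)]
    (G : EtCoh.Ab X) (n : ℕ) (x : HH Y ((EtCoh.pull t).obj G) n)
    (ξ : HH S ((EtCoh.pull q).obj G) n) : IsVia p t q w i G n x ξ ↔ hpVia p t q w G n x = ξ := Iff.rfl

theorem dies_iff (f : Y ⟶ X) [i : PreservesFiniteLimits (EtCoh.pull f)] (G : EtCoh.Ab X) (n : ℕ)
    (x : HH X G n) : Dies f i G n x ↔ hp f G n x = 0 := Iff.rfl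

end Opaque

/-- `LimEt.exists_hpVia_eq` in opaque form -/
theorem lim_surj {I : Type u} [SmallCategory I] [IsCofiltered I] {D : I ⥤ Scheme.{u}}
    [haff : ∀ {i j} (f : i ⟶ j), IsAffineHom (D.map f)] {S : Scheme.{u}}
    (p : ∀ i, S ⟶ D.obj i) (hpD : ∀ {x y : I} (f : x ⟶ y), p x ≫ D.map f = p y)
    (hc : IsLimit (coneOf p hpD)) {X : Scheme.{u}} (t : ∀ i, D.obj i ⟶ X)
    (ht : ∀ {x y : I} (f : x ⟶ y), D.map f ≫ t y = t x) {q : S ⟶ X}
    (hq : ∀ j, p j ≫ t j = q) (G : EtCoh.Ab X)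
    [hqc : ∀ i, CompactSpace (D.obj i)] [hqs : ∀ i, QuasiSeparatedSpace (D.obj i)]
    (hl : ∀ i, PreservesFiniteLimits (EtCoh.pull (p i))) (n : ℕ)
    (ξ : HH S ((EtCoh.pull q).obj G) n) :
    ∃ (j : I) (x : HH (D.obj j) ((EtCoh.pull (t j)).obj G) n),
      IsVia (p j) (t j) q (hq j) (hl j) G n x ξ :=
  Etcore.LimEt.exists_hpVia_eq p hpD hc t ht hq G n ξ

/-- `LimEt.exists_hp_eq_zero` in opaque form -/
theorem lim_inj {I : Type u} [SmallCategory I] [IsCofiltered I] {D : I ⥤ Scheme.{u}}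
    [haff : ∀ {i j} (f : i ⟶ j), IsAffineHom (D.map f)] {S : Scheme.{u}}
    (p : ∀ i, S ⟶ D.obj i) (hpD : ∀ {x y : I} (f : x ⟶ y), p x ≫ D.map f = p y)
    (hc : IsLimit (coneOf p hpD)) {X : Scheme.{u}} (t : ∀ i, D.obj i ⟶ X)
    (ht : ∀ {x y : I} (f : x ⟶ y), D.map f ≫ t y = t x) {q : S ⟶ X}
    (hq : ∀ j, p j ≫ t j = q) (G : EtCoh.Ab X)
    [hqc : ∀ i, CompactSpace (D.obj i)] [hqs : ∀ i, QuasiSeparatedSpace (D.obj i)]
    (hl : ∀ i, PreservesFiniteLimits (EtCoh.pull (p i)))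
    (hl' : ∀ {i j : I} (f : i ⟶ j), PreservesFiniteLimits (EtCoh.pull (D.map f))) (n : ℕ) (j : I)
    (x : HH (D.obj j) ((EtCoh.pull (t j)).obj G) n)
    (hx : IsVia (p j) (t j) q (hq j) (hl j) G n x 0) :
    ∃ (k : I) (f : k ⟶ j), Dies (D.map f) (hl' f) _ n x :=
  Etcore.LimEt.exists_hp_eq_zero p hpD hc t ht hq G n j x hx

section Transfer

variable {S X Y Y' : Scheme.{u}}

theorem transfer (e : Y = Y') {q : S ⟶ X} {p : S ⟶ Y} {t : Y ⟶ X} (w : p ≫ t = q)
    {p' : S ⟶ Y'} {t' : Y' ⟶ X} (w' : p' ≫ t' = q) (hp : p' = p ≫ eqToHom e)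
    (ht : t = eqToHom e ≫ t')
    (i : PreservesFiniteLimits (EtCoh.pull p)) (i' : PreservesFiniteLimits (EtCoh.pull p'))
    (F : EtCoh.Ab X) (n : ℕ) (ξ : HH S ((EtCoh.pull q).obj F) n)
    (h : ∃ x : HH Y ((EtCoh.pull t).obj F) n, IsVia p t q w i F n x ξ) :
    ∃ x : HH Y' ((EtCoh.pull t').obj F) n, IsVia p' t' q w' i' F n x ξ := by
  subst e
  rw [eqToHom_refl, Category.comp_id] at hp
  rw [eqToHom_refl, Category.id_comp] at ht
  subst hp ht
  have e1 : w = w' := rfl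
  have e2 : i = i' := rfl
  subst e1 e2
  exact h

theorem dies_transfer {X Y Y' : Scheme.{u}} (e : Y = Y') {f : Y ⟶ X} {f' : Y' ⟶ X}
    (hf : f = eqToHom e ≫ f') (i : PreservesFiniteLimits (EtCoh.pull f))
    (i' : PreservesFiniteLimits (EtCoh.pull f')) (F : EtCoh.Ab X) (n : ℕ) (x : HH X F n)
    (h : Dies f i F n x) : Dies f' i' F n x := by
  subst e
  rw [eqToHom_refl, Category.id_comp] at hf
  subst hf
  have e2 : i = i' := rfl
  subst e2
  exact h

end Transfer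

section Over

variable {I : Type u} [SmallCategory I] {D : I ⥤ Scheme.{u}} {S : Scheme.{u}}
  (p : ∀ i, S ⟶ D.obj i) (hpD : ∀ {x y : I} (f : x ⟶ y), p x ≫ D.map f = p y)

/-- the restricted system over `i` -/
abbrev DO (D : I ⥤ Scheme.{u}) (i : I) : Over i ⥤ Scheme.{u} := Over.forget i ⋙ D

/-- the restricted cone is a limit cone -/
noncomputable def isLimitO [IsCofiltered I] (hc : IsLimit (coneOf p hpD)) (i : I) :
    IsLimit (coneOf (D := DO D i) (fun k => p k.left) (fun f => hpD f.left)) :=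
  (Functor.Initial.isLimitWhiskerEquiv (Over.forget i) (coneOf p hpD)).symm hc

end Over

variable {I : Type u} [SmallCategory I] [IsCofiltered I] {D : I ⥤ Scheme.{u}}
  [haff : ∀ {i j} (f : i ⟶ j), IsAffineHom (D.map f)] {S : Scheme.{u}}
  (p : ∀ i, S ⟶ D.obj i) (hpD : ∀ {x y : I} (f : x ⟶ y), p x ≫ D.map f = p y)
  (hc : IsLimit (coneOf p hpD)) [hqc : ∀ i, CompactSpace (D.obj i)]
  [hqs : ∀ i, QuasiSeparatedSpace (D.obj i)]

include hc in
theorem stage_surj_aux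
    (i : I) (F₀ : EtCoh.Ab (D.obj i)) (n : ℕ) (ξ : HH S ((EtCoh.pull (p i)).obj F₀) n) :
    ∃ (k : Over i) (x : HH ((DO D i).obj k) ((EtCoh.pull (D.map k.hom : (DO D i).obj k ⟶ D.obj i)).obj F₀) n),
      @IsVia S (D.obj i) ((DO D i).obj k) (p k.left) (D.map k.hom) (p i) (hpD k.hom) (S0101.result _) F₀ n x ξ := by
  have h1 : ∀ {x y : Over i} (f : x ⟶ y), IsAffineHom ((DO D i).map f) := fun f => haff f.left
  have h2 : ∀ k, CompactSpace ((DO D i).obj k) := fun k => hqc k.left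
  have h3 : ∀ k, QuasiSeparatedSpace ((DO D i).obj k) := fun k => hqs k.left
  have h4 : ∀ k : Over i, PreservesFiniteLimits
      (EtCoh.pull (p k.left : S ⟶ (DO D i).obj k)) := fun k => S0101.result _
  exact lim_surj (D := DO D i) (S := S)
    (fun k => p k.left) (fun f => hpD f.left) (isLimitO p hpD hc i) (X := D.obj i)
    (fun k => (D.map k.hom : (DO D i).obj k ⟶ D.obj i))
    (fun {x y} f => (D.map_comp f.left y.hom).symm.trans (congrArg D.map (Over.w f)))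
    (q := p i) (fun k => hpD k.hom) F₀ h4 n ξ

include hc in
theorem stage_surj (hl : ∀ i, PreservesFiniteLimits (EtCoh.pull (p i)))
    (i : I) (F₀ : EtCoh.Ab (D.obj i)) (n : ℕ) (ξ : HH S ((EtCoh.pull (p i)).obj F₀) n) :
    ∃ (j : I) (f : j ⟶ i) (x : HH (D.obj j) ((EtCoh.pull (D.map f)).obj F₀) n),
      IsVia (p j) (D.map f) (p i) (hpD f) (hl j) F₀ n x ξ := by
  obtain ⟨k, hk⟩ := stage_surj_aux p hpD hc i F₀ n ξ
  exact ⟨k.left, k.hom, transfer (e := rfl) _ (hpD k.hom) (Category.comp_id _).symm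
    (Category.id_comp _).symm _ _ F₀ n ξ hk⟩

include hc in
theorem stage_inj_aux
    (i : I) (F₀ : EtCoh.Ab (D.obj i)) (n : ℕ) (j : Over i)
    (x : HH ((DO D i).obj j) ((EtCoh.pull (D.map j.hom : (DO D i).obj j ⟶ D.obj i)).obj F₀) n)
    (hx : @IsVia S (D.obj i) ((DO D i).obj j) (p j.left) (D.map j.hom) (p i) (hpD j.hom) (S0101.result _)
      F₀ n x 0) :
    ∃ (k : Over i) (f : k ⟶ j),
      @Dies ((DO D i).obj j) ((DO D i).obj k) ((DO D i).map f) (S0101.result _)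
        ((EtCoh.pull (D.map j.hom : (DO D i).obj j ⟶ D.obj i)).obj F₀) n x := by
  have h1 : ∀ {x y : Over i} (f : x ⟶ y), IsAffineHom ((DO D i).map f) := fun f => haff f.left
  have h2 : ∀ k, CompactSpace ((DO D i).obj k) := fun k => hqc k.left
  have h3 : ∀ k, QuasiSeparatedSpace ((DO D i).obj k) := fun k => hqs k.left
  have h4 : ∀ k : Over i, PreservesFiniteLimits
      (EtCoh.pull (p k.left : S ⟶ (DO D i).obj k)) := fun k => S0101.result _
  have h5 : ∀ {x y : Over i} (f : x ⟶ y), PreservesFiniteLimits (EtCoh.pull ((DO D i).map f)) :=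
    fun f => S0101.result _
  exact lim_inj (D := DO D i) (S := S)
    (fun k => p k.left) (fun f => hpD f.left) (isLimitO p hpD hc i) (X := D.obj i)
    (fun k => (D.map k.hom : (DO D i).obj k ⟶ D.obj i))
    (fun {x y} f => (D.map_comp f.left y.hom).symm.trans (congrArg D.map (Over.w f)))
    (q := p i) (fun k => hpD k.hom) F₀ h4 h5 n j x hx

/-- Pulling back in two steps and in one step. -/
theorem dies_comp {X Y Z : Scheme.{u}} (g : X ⟶ Y) (f : Y ⟶ Z) (gf : X ⟶ Z) (w : g ≫ f = gf)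
    (ig : PreservesFiniteLimits (EtCoh.pull g)) (jf : PreservesFiniteLimits (EtCoh.pull f))
    (igf : PreservesFiniteLimits (EtCoh.pull gf)) (F : EtCoh.Ab Z) (n : ℕ) (x : HH Z F n)
    (h : Dies g ig _ n (hp f F n x)) : Dies gf igf F n x := by
  have h1 := hpVia_hp g f gf w F n x
  rw [hpVia_apply, (dies_iff g _ n _).1 h, map_zero] at h1
  exact h1.symm

theorem isVia_hp_zero {X Y Z : Scheme.{u}} (g : X ⟶ Y) (f : Y ⟶ Z) (gf : X ⟶ Z) (w : g ≫ f = gf)
    (ig : PreservesFiniteLimits (EtCoh.pull g)) (jf : PreservesFiniteLimits (EtCoh.pull f))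
    (igf : PreservesFiniteLimits (EtCoh.pull gf)) (F : EtCoh.Ab Z) (n : ℕ) (x : HH Z F n)
    (h : Dies gf igf F n x) : IsVia g f gf w ig F n (hp f F n x) 0 := by
  rw [isVia_iff, hpVia_hp]
  exact h

include hc in
theorem stage_inj (hl : ∀ i, PreservesFiniteLimits (EtCoh.pull (p i)))
    (hl' : ∀ {i j : I} (f : i ⟶ j), PreservesFiniteLimits (EtCoh.pull (D.map f)))
    (i : I) (F₀ : EtCoh.Ab (D.obj i)) (n : ℕ) (x : HH (D.obj i) F₀ n)
    (hx : Dies (p i) (hl i) F₀ n x) :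
    ∃ (k : I) (f : k ⟶ i), Dies (D.map f) (hl' f) F₀ n x := by
  have i1 := hl' (𝟙 i)
  obtain ⟨k, f, hk⟩ := stage_inj_aux p hpD hc i F₀ n (Over.mk (𝟙 i)) (hp (D.map (𝟙 i)) F₀ n x)
    (isVia_hp_zero (p i) (D.map (𝟙 i)) (p i) (hpD (𝟙 i)) _ _ (hl i) F₀ n x hx)
  exact ⟨k.left, f.left, dies_comp (D.map f.left) (D.map (𝟙 i)) (D.map f.left)
    ((D.map_comp f.left (𝟙 i)).symm.trans (congrArg D.map (Category.comp_id _))) (hl' _) _ _ F₀ n x
    (dies_transfer rfl (Category.id_comp _).symm _ _ _ n _ hk)⟩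

end Groth.Agent.Topos.H573.SysStage
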